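import Mathlib
import Cfsg.Agent.H33.EC.Abelian
import Cfsg.Agent.H33.EC.Dihedral
import Cfsg.Agent.H49.Homs
import Cfsg.Agent.H93.TwoEssential.Tools
import Cfsg.Agent.H6.SmallOrder
import Cfsg.Agent.S0508
import Cfsg.Agent.S0949
import Cfsg.Agent.S1230

/-!
Simple groups with the normalizer condition on even cyclic subgroups are two dimensional projective special
linear groups over fields of more than three elements.
-/

set_option autoImplicit false

open scoped commutatorElement

namespace Cfsg.Agent.H33.EC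

variable {M : Type*} [Group M] [Finite M]

/-- A noncyclic group of even order: the homocyclic isomorphism from two elements. -/
theorem equiv_homocyclic (S : Subgroup M) {v w : M} {n : ℕ} [NeZero n] (hv : v ∈ S) (hw : w ∈ S)
    (hvo : orderOf v = n) (hwo : orderOf w = n) (hvw : Commute v w)
    (hdis : ∀ z, z ∈ Subgroup.zpowers v → z ∈ Subgroup.zpowers w → z = 1)
    (hgen : ∀ x ∈ S, ∃ i j : ℤ, x = v ^ i * w ^ j) :
    Nonempty (S ≃* Multiplicative (ZMod n × ZMod n)) := by
  have hv1 : v ^ n = 1 := hvo ▸ pow_orderOf_eq_one v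
  have hw1 : w ^ n = 1 := hwo ▸ pow_orderOf_eq_one w
  let φ : Multiplicative (ZMod n × ZMod n) →* M :=
    { toFun := fun p => H49.zpw n v p.toAdd.1 * H49.zpw n w p.toAdd.2
      map_one' := by simp [H49.zpw_zero]
      map_mul' := fun a b => by
        simp only [toAdd_mul, Prod.fst_add, Prod.snd_add, H49.zpw_add hv1, H49.zpw_add hw1]
        exact (hvw.pow_pow _ _).mul_mul_mul_comm _ _ }
  have hmem : ∀ p, φ p ∈ S := fun p => mul_mem (pow_mem hv _) (pow_mem hw _)
  let ψ := φ.codRestrict S hmem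
  have hinj : Function.Injective ψ := by
    rw [injective_iff_map_eq_one]
    intro p hp
    have h1 : H49.zpw n v p.toAdd.1 * H49.zpw n w p.toAdd.2 = 1 := congrArg Subtype.val hp
    have h2 : H49.zpw n v p.toAdd.1 = 1 := by
      refine hdis _ (pow_mem (Subgroup.mem_zpowers v) _) ?_
      rw [eq_inv_of_mul_eq_one_left h1]
      exact inv_mem (pow_mem (Subgroup.mem_zpowers w) _)
    rw [h2, one_mul] at h1
    have e1 : p.toAdd.1 = 0 := H49.zpw_injective hvo (h2.trans (H49.zpw_zero v).symm)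
    have e2 : p.toAdd.2 = 0 := H49.zpw_injective hwo (h1.trans (H49.zpw_zero w).symm)
    exact Multiplicative.toAdd.injective (Prod.ext e1 e2)
  have hsurj : Function.Surjective ψ := by
    rintro ⟨x, hx⟩
    obtain ⟨i, j, rfl⟩ := hgen x hx
    obtain ⟨a, ha⟩ : ∃ a : ℕ, v ^ a = v ^ i :=
      mem_powers_iff_mem_zpowers.2 (zpow_mem (Subgroup.mem_zpowers v) i)
    obtain ⟨b, hb⟩ : ∃ b : ℕ, w ^ b = w ^ j :=
      mem_powers_iff_mem_zpowers.2 (zpow_mem (Subgroup.mem_zpowers w) j)
    refine ⟨Multiplicative.ofAdd ((a : ZMod n), (b : ZMod n)), Subtype.ext ?_⟩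
    show H49.zpw n v (a : ZMod n) * H49.zpw n w (b : ZMod n) = _
    rw [H49.zpw_natCast hv1, H49.zpw_natCast hw1, ha, hb]
  exact ⟨(MulEquiv.ofBijective ψ ⟨hinj, hsurj⟩).symm⟩

/-- An involution of the dihedral data outside the cyclic part fixes no element of the odd core. -/
theorem Good.no_fix (h : Good M) (S : Sylow 2 M) {A w x : M} (hA : A ∈ (S : Subgroup M))
    (hwS : w ∈ (S : Subgroup M)) (hw2 : w * w = 1) (hwA : w * A * w⁻¹ = A⁻¹)
    (hwn : w ∉ Subgroup.zpowers A) (hAe : Even (orderOf A))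
    (hcov : ∀ s ∈ (S : Subgroup M), s ∈ Subgroup.zpowers A ∨ s * w ∈ Subgroup.zpowers A)
    (hx : x ∈ oddD (A ^ (orderOf A / 2))) (hwx : Commute w x) : x = 1 := by
  by_contra hx1
  obtain ⟨ht, htA⟩ := exists_involution_pow hAe
  set t := A ^ (orderOf A / 2)
  obtain ⟨hxt, hxo⟩ := (h.nc.mem_oddD ht).1 hx
  have hw1 : w ≠ 1 := fun e => hwn (e ▸ one_mem _)
  have hw : orderOf w = 2 := orderOf_two_iff.2 ⟨hw2, hw1⟩
  have hCw := h.nc.commute_iff_of_common ht hw hx ((h.nc.mem_oddD hw).2 ⟨hwx.symm, hxo⟩) hx1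
  have hAt : Commute A t := (Commute.refl A).pow_right _
  have hAw : Commute A w := (hCw A).1 hAt
  have hA2 : A * A = 1 := by
    rw [hAw.symm.eq, mul_inv_cancel_right] at hwA
    nth_rewrite 2 [hwA]
    exact mul_inv_cancel A
  have hA1 : A ≠ 1 := fun e => by
    rw [e, orderOf_one] at hAe
    exact absurd hAe (by decide)
  have hAo : orderOf A = 2 := orderOf_two_iff.2 ⟨hA2, hA1⟩
  have htdef : t = A := by
    show A ^ (orderOf A / 2) = A
    rw [hAo, pow_one]
  have hAx : Commute A x := htdef ▸ hxt.symm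
  have hw' : w⁻¹ = w := inv_eq_of_mul_eq_one_right hw2
  have hSx : ∀ s ∈ (S : Subgroup M), Commute s x ∧ Commute s A ∧ Commute s w := by
    intro s hs
    rcases hcov s hs with e | e
    · obtain ⟨k, rfl⟩ := Subgroup.mem_zpowers_iff.1 e
      exact ⟨hAx.zpow_left k, (Commute.refl A).zpow_left k, hAw.zpow_left k⟩
    · obtain ⟨k, hk⟩ := Subgroup.mem_zpowers_iff.1 e
      have es : s = A ^ k * w := by rw [hk, mul_assoc, hw2, mul_one]
      subst es
      exact ⟨(hAx.zpow_left k).mul_left hwx,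
        ((Commute.refl A).zpow_left k).mul_left hAw.symm,
        (hAw.zpow_left k).mul_left (Commute.refl w)⟩
  have hab : ∀ a ∈ (S : Subgroup M), ∀ b ∈ (S : Subgroup M), Commute a b := by
    intro a ha b hb
    obtain ⟨-, h1, h2⟩ := hSx a ha
    rcases hcov b hb with e | e
    · obtain ⟨k, rfl⟩ := Subgroup.mem_zpowers_iff.1 e
      exact h1.zpow_right k
    · obtain ⟨k, hk⟩ := Subgroup.mem_zpowers_iff.1 e
      have es : b = A ^ k * w := by rw [hk, mul_assoc, hw2, mul_one]
      subst es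
      exact (h1.zpow_right k).mul_right h2
  have hnc : ¬ IsCyclic (S : Subgroup M) := fun hc => hwn (by
    obtain ⟨g, hg⟩ := hc.exists_generator
    have e1 : ∀ z ∈ (S : Subgroup M), z * z = 1 → z ≠ 1 → z = (g : M) ^ (orderOf (g : M) / 2) := by
      intro z hz h1 h2
      exact eq_half_pow (orderOf_two_iff.2 ⟨h1, h2⟩) ((mem_zpowers_coe (⟨z, hz⟩ : (S : Subgroup M)) g).2 (hg _))
    rw [e1 w hwS hw2 hw1, ← e1 A hA hA2 hA1]
    exact Subgroup.mem_zpowers A)
  have hsame : SameC S := by
    have key : ∀ e : M, orderOf e = 2 → e ∈ (S : Subgroup M) → ∀ g, Commute g e ↔ Commute g t :=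
      fun e he heS g => (h.nc.commute_iff_of_common ht he hx
        ((h.nc.mem_oddD he).2 ⟨(hSx e heS).1.symm, hxo⟩) hx1 g).symm
    intro t₁ e x₁ y₁ h1 h2 h1S h2S _ _ _ _ g
    rw [key t₁ h1 h1S g, key e h2 h2S g]
  have h2 := h.elementary S hab hnc hsame hAo hA hAx.symm
  exact hx1 (eq_one_of_sq_odd h2 hxo)
where
  eq_one_of_sq_odd {x : M} (h2 : x * x = 1) (hxo : Odd (orderOf x)) : x = 1 := by
    have hd : orderOf x ∣ 2 := orderOf_dvd_of_pow_eq_one (by rw [pow_two]; exact h2)
    rcases (Nat.dvd_prime Nat.prime_two).1 hd with e | e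
    · exact orderOf_eq_one_iff.1 e
    · rw [e] at hxo
      exact absurd hxo (by decide)

/-- Dihedral or four-group Sylow subgroups give odd characteristic. -/
theorem Good.psl_of_dihedral [IsSimpleGroup M] (h : Good M) (hnab : ¬ ∀ a b : M, Commute a b)
    (S : Sylow 2 M) {A u : M} (hA : A ∈ (S : Subgroup M)) (hu : u ∈ (S : Subgroup M)) (hu2 : u * u = 1)
    (huA : u * A * u⁻¹ = A⁻¹) (hun : u ∉ Subgroup.zpowers A) (hAe : Even (orderOf A))
    (hcov : ∀ s ∈ (S : Subgroup M), s ∈ Subgroup.zpowers A ∨ s * u ∈ Subgroup.zpowers A) :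
    ∃ (F : Type) (_ : Field F) (_ : Fintype F), 3 < Fintype.card F ∧
      (Odd (Fintype.card F) ∨ 8 ≤ Fintype.card F) ∧
      Nonempty (M ≃* Matrix.ProjectiveSpecialLinearGroup (Fin 2) F) := by
  obtain ⟨ht, htA⟩ := exists_involution_pow hAe
  set t := A ^ (orderOf A / 2) with htdef
  set n := orderOf A with hn
  have hn2 : 2 ≤ n := by
    obtain ⟨k, hk⟩ := hAe
    have := orderOf_pos A
    omega
  haveI : NeZero n := ⟨by omega⟩
  have hui : u⁻¹ = u := inv_eq_of_mul_eq_one_right hu2
  have hAt : Commute A t := (Commute.refl A).pow_right _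
  have hut : Commute u t := by
    refine mul_inv_eq_iff_eq_mul.1 ?_
    rw [htdef, ← conj_pow, huA, inv_pow, ← htdef]
    exact inv_eq_of_mul_eq_one_right (orderOf_two_iff.1 ht).1
  have hrep : ∀ s ∈ (S : Subgroup M), ∃ k : ℤ, s = A ^ k ∨ s = A ^ k * u := by
    intro s hs
    rcases hcov s hs with e | e
    · obtain ⟨k, hk⟩ := Subgroup.mem_zpowers_iff.1 e
      exact ⟨k, Or.inl hk.symm⟩
    · obtain ⟨k, hk⟩ := Subgroup.mem_zpowers_iff.1 e
      exact ⟨k, Or.inr (by rw [hk, mul_assoc, hu2, mul_one])⟩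
  have htS : t ∈ (S : Subgroup M) := pow_mem hA _
  have hSt : ∀ s ∈ (S : Subgroup M), Commute s t := by
    intro s hs
    obtain ⟨k, rfl | rfl⟩ := hrep s hs
    · exact hAt.zpow_left k
    · exact (hAt.zpow_left k).mul_left hut
  have hdih : Nonempty ((S : Subgroup M) ≃* DihedralGroup n) := by
    let φ := H49.dihHom n A u (hn ▸ pow_orderOf_eq_one A) hu2 huA
    have hmem : ∀ d, φ d ∈ (S : Subgroup M) := by
      rintro (i | i)
      · exact pow_mem hA _
      · exact mul_mem hu (pow_mem hA _)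
    let ψ := φ.codRestrict (S : Subgroup M) hmem
    have hinj : Function.Injective ψ := fun a b hab =>
      H49.dihHom_injective (hn.symm) hu2 huA hun (congrArg Subtype.val hab)
    have hsurj : Function.Surjective ψ := by
      rintro ⟨s, hs⟩
      rcases hcov s hs with e | e
      · obtain ⟨i, hi⟩ : ∃ i : ℕ, A ^ i = s := mem_powers_iff_mem_zpowers.2 e
        refine ⟨DihedralGroup.r (i : ZMod n), Subtype.ext ?_⟩
        show H49.zpw n A (i : ZMod n) = s
        rw [H49.zpw_natCast (hn ▸ pow_orderOf_eq_one A), hi]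
      · obtain ⟨i, hi⟩ : ∃ i : ℕ, A ^ i = s * u := mem_powers_iff_mem_zpowers.2 e
        refine ⟨DihedralGroup.sr (-(i : ZMod n)), Subtype.ext ?_⟩
        show u * H49.zpw n A (-(i : ZMod n)) = s
        rw [← H49.zpw_inv_conj (hn ▸ pow_orderOf_eq_one A) huA,
          H49.zpw_natCast (hn ▸ pow_orderOf_eq_one A), hi, mul_assoc, hu2, mul_one]
    exact ⟨(MulEquiv.ofBijective ψ ⟨hinj, hsurj⟩).symm⟩
  have huA' : (u * A) * (u * A) = 1 := by
    calc u * A * (u * A) = (u * A * u⁻¹) * (u * u) * A := by group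
      _ = 1 := by rw [huA, hu2, mul_one, inv_mul_cancel]
  have hfix : ∀ w, w = u ∨ w = u * A → ∀ x ∈ oddD t, Commute w x → x = 1 := by
    intro w hw x hx hwx
    rcases hw with rfl | rfl
    · exact h.no_fix S hA hu hu2 huA hun hAe hcov hx hwx
    · refine h.no_fix S hA (mul_mem hu hA) huA' ?_ ?_ hAe ?_ hx hwx
      · calc u * A * A * (u * A)⁻¹ = u * A * u⁻¹ := by group
          _ = A⁻¹ := huA
      · exact fun e => hun (by simpa using mul_mem e (inv_mem (Subgroup.mem_zpowers A)))
      · intro s hs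
        refine (hcov s hs).imp id fun e => ?_
        rw [← mul_assoc]
        exact mul_mem e (Subgroup.mem_zpowers A)
  have hinv : ∀ x ∈ oddD t, u * x * u⁻¹ = x⁻¹ := fun x hx =>
    h.nc.inverts_oddD ht hu2 hut (hfix u (Or.inl rfl)) hx
  have hAD : ∀ x ∈ oddD t, Commute A x := by
    intro x hx
    have h1 := h.nc.inverts_oddD ht huA' (hut.mul_left hAt) (hfix _ (Or.inr rfl)) hx
    refine mul_inv_eq_iff_eq_mul.1 ?_
    calc A * x * A⁻¹ = u⁻¹ * ((u * A) * x * (u * A)⁻¹) * u := by group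
      _ = u⁻¹ * (u * x * u⁻¹) * u := by rw [h1, hinv x hx]
      _ = x := by group
  have hne1 : ∀ x ∈ oddD t, x⁻¹ = x → x = 1 := fun x hx e =>
    Good.no_fix.eq_one_of_sq_odd (by nth_rewrite 1 [← e]; exact inv_mul_cancel x) ((h.nc.mem_oddD ht).1 hx).2
  have hswap : ∀ s ∈ (S : Subgroup M), s * u ∈ Subgroup.zpowers A → ∀ x ∈ oddD t, s * x * s⁻¹ = x⁻¹ := by
    intro s hs e x hx
    obtain ⟨k, hk⟩ := Subgroup.mem_zpowers_iff.1 e
    have es : s = A ^ k * u := by rw [hk, mul_assoc, hu2, mul_one]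
    rw [es, show A ^ k * u * x * (A ^ k * u)⁻¹ = A ^ k * (u * x * u⁻¹) * (A ^ k)⁻¹ by group, hinv x hx,
      ((hAD _ (inv_mem hx)).zpow_left k).eq, mul_inv_cancel_right]
  obtain ⟨F, iF, iFt, hodd, e⟩ := S0508.result S n hn2 hdih t ht htS (fun s hs => (hSt s hs).eq) (oddD t) rfl
    (fun hD => by
      obtain ⟨x, hx, hx1⟩ := (Subgroup.nontrivial_iff_exists_ne_one _).1
        ((Subgroup.nontrivial_iff_ne_bot _).2 hD)
      have heq : (S : Subgroup M) ⊓ Subgroup.centralizer (oddD t : Set M) = Subgroup.zpowers A := by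
        refine le_antisymm (fun s hs => ?_) (Subgroup.zpowers_le.2 ⟨hA, ?_⟩)
        · refine (hcov s hs.1).resolve_right fun e => hx1 (hne1 x hx ?_)
          rw [← hswap s hs.1 e x hx, show s * x = x * s from
            (Subgroup.mem_centralizer_iff.1 hs.2 x hx).symm, mul_inv_cancel_right]
        · exact Subgroup.mem_centralizer_iff.2 fun y hy => (hAD y hy).symm.eq
      rw [heq]
      refine ⟨inferInstance, ?_⟩
      have hle : Subgroup.zpowers A ≤ (S : Subgroup M) := Subgroup.zpowers_le.2 hA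
      have h1 := ((Subgroup.zpowers A).subgroupOf (S : Subgroup M)).card_mul_index
      rw [Nat.card_congr (Subgroup.subgroupOfEquivOfLe hle).toEquiv, Nat.card_zpowers, ← hn,
        Nat.card_congr hdih.some.toEquiv, DihedralGroup.nat_card, mul_comm 2 n] at h1
      exact Nat.eq_of_mul_eq_mul_left (by omega) h1)
    (fun s hs hsC y hy => by
      refine hswap s hs ((hcov s hs).resolve_left fun e => hsC ?_) y hy
      obtain ⟨k, rfl⟩ := Subgroup.mem_zpowers_iff.1 e
      exact Subgroup.mem_centralizer_iff.2 fun z hz => ((hAD z hz).zpow_left k).symm.eq)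
    (fun Y hY hY1 g hg => by
      obtain ⟨x, hx, hx1⟩ := (Subgroup.nontrivial_iff_exists_ne_one _).1
        ((Subgroup.nontrivial_iff_ne_bot _).2 hY1)
      rw [mem_cent]
      have hx' : g * x * g⁻¹ ∈ oddD t := hY ((Subgroup.mem_normalizer_iff.1 hg x).1 hx)
      have hx'1 : g * x * g⁻¹ ≠ 1 := fun e => hx1 (by simpa using e)
      have ht' : orderOf (g * t * g⁻¹) = 2 := by simpa using ((MulAut.conj g).orderOf_eq t).trans ht
      obtain ⟨hxt, hxo⟩ := (h.nc.mem_oddD ht).1 (hY hx)
      have hx't' : g * x * g⁻¹ ∈ oddD (g * t * g⁻¹) := (h.nc.mem_oddD ht').2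
        ⟨by simpa using hxt.map (MulAut.conj g).toMonoidHom, by
          rwa [show orderOf (g * x * g⁻¹) = orderOf x by simpa using (MulAut.conj g).orderOf_eq x]⟩
      have hC := h.nc.commute_iff_of_common ht ht' hx' hx't' hx'1
      have hS' : ∀ s ∈ (S : Subgroup M), Commute s (g * t * g⁻¹) := fun s hs => (hC s).1 (hSt s hs)
      obtain ⟨d, hd, s, hs, hds⟩ := h.nc.exists_mul S ht hSt ((hC _).2 (Commute.refl (g * t * g⁻¹)))
      have htS' : g * t * g⁻¹ ∈ (S : Subgroup M) := by
        have hc1 : Commute (g * t * g⁻¹) s⁻¹ := (hS' s hs).symm.inv_right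
        obtain ⟨m, hm⟩ := exists_two_pow S hs
        have hd' : d = g * t * g⁻¹ * s⁻¹ := by rw [hds, mul_inv_cancel_right]
        have hpow : d ^ (2 ^ (m + 1)) = 1 := by
          rw [hd', hc1.mul_pow, inv_pow, orderOf_dvd_iff_pow_eq_one.1 (by rw [ht']; exact dvd_pow_self 2 (by omega)),
            orderOf_dvd_iff_pow_eq_one.1 (by rw [hm]; exact pow_dvd_pow 2 (by omega)), inv_one, mul_one]
        have hd1 : d = 1 := orderOf_eq_one_iff.1 (Nat.eq_one_of_dvd_coprimes
          (Nat.Coprime.pow_right _ (Nat.coprime_two_right.2 ((h.nc.mem_oddD ht).1 hd).2)) dvd_rfl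
          (orderOf_dvd_of_pow_eq_one hpow))
        rw [hds, hd1, one_mul]
        exact hs
      rcases hcov _ htS' with e | e
      · have := eq_half_pow ht' e
        rw [← hn, ← htdef] at this
        exact mul_inv_eq_iff_eq_mul.1 this
      · refine absurd (hne1 _ hx' ?_) hx'1
        rw [← hswap _ htS' e _ hx', ((h.nc.mem_oddD ht').1 hx't').1.symm.eq, mul_inv_cancel_right])
  refine ⟨F, iF, iFt, ?_, Or.inl hodd, e⟩
  by_contra hle
  have h3 : Fintype.card F = 3 := by
    have := Fintype.one_lt_card (α := F)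
    obtain ⟨c, hc⟩ := hodd
    omega
  obtain ⟨e⟩ := e
  have h24 : Nat.card (Matrix.SpecialLinearGroup (Fin 2) F) = 24 := by
    rw [H93.TwoEss.card_SL_two, Nat.card_eq_fintype_card, h3]
  have hsol : Group.IsSolvable M := H6.isSolvable_of_card_lt_sixty (by
    rw [Nat.card_congr e.toEquiv]
    exact lt_of_le_of_lt (Nat.card_le_card_of_surjective _ (QuotientGroup.mk_surjective)) (by rw [h24]; norm_num))
  exact hnab fun a b => IsSimpleGroup.comm_iff_isSolvable.2 hsol a b

theorem good_of_simple [IsSimpleGroup M] (hnab : ¬ ∀ a b : M, Commute a b) (h : NC M) : Good M := by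
  refine ⟨h, ?_, ?_, ?_⟩
  · refine ((H19.pPrimeCore_normal 2 M).eq_bot_or_eq_top).resolve_right fun e => hnab ?_
    have h1 : Odd (Nat.card M) := by
      have := Nat.coprime_two_right.1 (H19.pPrimeCore_coprime (G := M) 2)
      rwa [e, Subgroup.card_top] at this
    exact fun a b => IsSimpleGroup.comm_iff_isSolvable.2 (H25.PF14.odd_solvable M h1) a b
  · refine (inferInstance : (Subgroup.center M).Normal).eq_bot_or_eq_top.resolve_right fun e => hnab ?_
    intro a b
    have : b ∈ Subgroup.center M := e ▸ Subgroup.mem_top b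
    exact Subgroup.mem_center_iff.1 this a
  · refine (inferInstance : (commutator M).Normal).eq_bot_or_eq_top.resolve_left fun e => hnab ?_
    intro a b
    have : ⁅a, b⁆ ∈ commutator M := Subgroup.commutator_mem_commutator (Subgroup.mem_top a) (Subgroup.mem_top b)
    rw [e, Subgroup.mem_bot] at this
    exact commutatorElement_eq_one_iff_commute.1 this

/-- The simple groups with the condition. -/
theorem simple_psl [IsSimpleGroup M] (hnab : ¬ ∀ a b : M, Commute a b) (hnc : NC M) :
    ∃ (F : Type) (_ : Field F) (_ : Fintype F), 3 < Fintype.card F ∧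
      (Odd (Fintype.card F) ∨ 8 ≤ Fintype.card F) ∧
      Nonempty (M ≃* Matrix.ProjectiveSpecialLinearGroup (Fin 2) F) := by
  have : Fact (Nat.Prime 2) := ⟨Nat.prime_two⟩
  have h := good_of_simple hnab hnc
  obtain ⟨S⟩ : Nonempty (Sylow 2 M) := inferInstance
  have hS : (S : Subgroup M) ≠ ⊥ := by
    intro e
    have hodd : Odd (Nat.card M) := by
      rw [← Subgroup.index_bot, ← e, Nat.odd_iff]
      have := S.not_dvd_index
      omega
    exact hnab fun a b => IsSimpleGroup.comm_iff_isSolvable.2 (H25.PF14.odd_solvable M hodd) a b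
  by_cases hcc : CC S
  swap
  · simp only [CC] at hcc
    push Not at hcc
    obtain ⟨t, g, ht, hcen, hgS, hnotcen⟩ := hcc
    have hex : ∃ v ∈ (S : Subgroup M), v * v ≠ 1 := by
      by_contra hcon
      push Not at hcon
      refine hnotcen ⟨hgS, fun s hs => ?_⟩
      have h1 := hcon _ (mul_mem hs hgS)
      show s * (g * t * g⁻¹) = g * t * g⁻¹ * s
      rw [eq_inv_of_mul_eq_one_left h1, mul_inv_rev, inv_eq_of_mul_eq_one_right (hcon s hs),
        inv_eq_of_mul_eq_one_right (hcon _ hgS)]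
    obtain ⟨A, u, hA, hu, hu2, huA, hun, h4, hcov⟩ := dihedral_data h.nc S ht hcen hgS hnotcen hex
    obtain ⟨m, hm⟩ := exists_two_pow S hA
    refine h.psl_of_dihedral hnab S hA hu hu2 huA hun ?_ hcov
    refine even_orderOf_of_ne_one S hA fun e => ?_
    rw [e, orderOf_one] at h4
    omega
  have hab := h.abelian S hcc
  obtain ⟨a, ha, hca⟩ := exists_cen_involution S hS
  have haS := hca.1
  obtain ⟨a2, a1⟩ := orderOf_two_iff.1 ha
  have hmove : ∀ e : M, orderOf e = 2 → e ∈ (S : Subgroup M) →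
      ∃ n ∈ Subgroup.normalizer ((S : Subgroup M) : Set M), n * e * n⁻¹ ≠ e := by
    intro e he heS
    by_contra hcon
    push Not at hcon
    refine h.not_isolated S he fun g hg => ?_
    obtain ⟨n, hn, e'⟩ := h.nc.control S hcc heS hg
    rw [e', hcon n hn]
  obtain ⟨n, hn, hnb⟩ := hmove a ha haS
  set b := n * a * n⁻¹ with hbdef
  have hb : orderOf b = 2 := by simpa [hbdef] using ((MulAut.conj n).orderOf_eq a).trans ha
  have hbS : b ∈ (S : Subgroup M) := (Subgroup.mem_normalizer_iff.1 hn a).1 haS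
  obtain ⟨b2, b1⟩ := orderOf_two_iff.1 hb
  have hnc' : ¬ IsCyclic (S : Subgroup M) := fun hc => hnb (by
    obtain ⟨g, hg⟩ := hc.exists_generator
    rw [eq_half_pow hb ((mem_zpowers_coe (⟨b, hbS⟩ : (S : Subgroup M)) g).2 (hg _)),
      eq_half_pow ha ((mem_zpowers_coe (⟨a, haS⟩ : (S : Subgroup M)) g).2 (hg _))])
  by_cases hrank : ∃ c ∈ (S : Subgroup M), orderOf c = 2 ∧ c ≠ a ∧ c ≠ b ∧ c ≠ a * b
  · -- elementary of order at least eight
    obtain ⟨c, hcS, hc, hca', hcb, hcab⟩ := hrank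
    have hsame := h.nc.sameC_of_rank S hab ha hb hc haS hbS hcS hnb.symm hca' hcb hcab
    have hexp : ∀ s ∈ (S : Subgroup M), s * s = 1 := fun s hs =>
      h.elementary S hab hnc' hsame ha haS (hab s hs a haS)
    have hC : ∀ t : M, orderOf t = 2 → IsMulCommutative (Subgroup.centralizer ({t} : Set M)) ∧
        ∀ z ∈ Subgroup.centralizer ({t} : Set M), z ^ 2 = 1 := by
      intro t ht
      obtain ⟨g, hg⟩ : ∃ g : M, g * t * g⁻¹ ∈ (S : Subgroup M) := by
        obtain ⟨Q, hQ⟩ := (IsPGroup.of_card (n := 1)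
          (by rw [Nat.card_zpowers, ht, pow_one]) : IsPGroup 2 ↥(Subgroup.zpowers t)).exists_le_sylow
        obtain ⟨g, hg⟩ := MulAction.exists_smul_eq M Q S
        exact ⟨g, hg ▸ H22.conj_mem_smul_sylow (hQ (Subgroup.mem_zpowers t))⟩
      have ht' : orderOf (g * t * g⁻¹) = 2 := by simpa using ((MulAut.conj g).orderOf_eq t).trans ht
      have hsq : ∀ z ∈ Subgroup.centralizer ({t} : Set M), z * z = 1 := by
        intro z hz
        have h1 := h.elementary S hab hnc' hsame ht' hg
          (g := g * z * g⁻¹) (by simpa using (mem_cent.1 hz).map (MulAut.conj g).toMonoidHom)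
        calc z * z = g⁻¹ * (g * z * g⁻¹ * (g * z * g⁻¹)) * g := by group
          _ = 1 := by rw [h1]; group
      refine ⟨⟨⟨fun x y => Subtype.ext ?_⟩⟩, fun z hz => by rw [pow_two]; exact hsq z hz⟩
      show (x : M) * y = y * x
      rw [eq_inv_of_mul_eq_one_left (hsq _ (mul_mem x.2 y.2)), mul_inv_rev,
        inv_eq_of_mul_eq_one_right (hsq x x.2), inv_eq_of_mul_eq_one_right (hsq y y.2)]
    obtain ⟨F, iF, iFt, hcard, e⟩ := S1230.result S hnc' (h.not_normal S hS) hC
    have h5 : 5 ≤ Nat.card (S : Subgroup M) := by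
      classical
      haveI := Fintype.ofFinite (S : Subgroup M)
      rw [Nat.card_eq_fintype_card]
      have hne : a * b ≠ 1 := fun e => hnb (by
        rw [eq_inv_of_mul_eq_one_right e, inv_eq_of_mul_eq_one_right a2])
      let f : Fin 5 → (S : Subgroup M) := ![1, ⟨a, haS⟩, ⟨b, hbS⟩, ⟨a * b, mul_mem haS hbS⟩, ⟨c, hcS⟩]
      have hf : Function.Injective f := by
        have c1 := (orderOf_two_iff.1 hc).2
        have hba : b ≠ a := hnb
        have hab1 : a * b ≠ a := fun e => b1 (mul_eq_left.1 e)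
        have hab2 : a * b ≠ b := fun e => a1 (mul_eq_right.1 e)
        intro i j hij
        fin_cases i <;> fin_cases j <;> first | rfl | (exfalso; simp [f, Subtype.ext_iff] at hij; tauto)
      simpa using Fintype.card_le_of_injective f hf
    obtain ⟨k, hk⟩ := IsPGroup.iff_card.1 S.2
    have h8 : 8 ≤ Fintype.card F := by
      rw [hcard, hk]
      rw [hk] at h5
      calc 8 = 2 ^ 3 := rfl
        _ ≤ 2 ^ k := Nat.pow_le_pow_right (by norm_num) (by
          by_contra hk3
          have : 2 ^ k ≤ 2 ^ 2 := Nat.pow_le_pow_right (by norm_num) (by omega)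
          omega)
    exact ⟨F, iF, iFt, by omega, Or.inr h8, e⟩
  push Not at hrank
  by_cases hexp : ∀ s ∈ (S : Subgroup M), s * s = 1
  · -- four group
    have hbz : b ∉ Subgroup.zpowers a := by
      intro e
      have := eq_half_pow hb e
      rw [ha, pow_one] at this
      exact hnb this
    refine h.psl_of_dihedral hnab S (u := b) haS hbS b2 ?_ hbz (by rw [ha]; exact even_two) ?_
    · rw [(hab b hbS a haS).eq, mul_inv_cancel_right, inv_eq_of_mul_eq_one_right a2]
    · intro s hs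
      by_cases hs1 : s = 1
      · exact Or.inl (hs1 ▸ one_mem _)
      by_cases hsa : s = a
      · exact Or.inl (hsa ▸ Subgroup.mem_zpowers a)
      by_cases hsb : s = b
      · exact Or.inr (by rw [hsb, b2]; exact one_mem _)
      refine Or.inr ?_
      rw [hrank s hs (orderOf_two_iff.2 ⟨hexp s hs, hs1⟩) hsa hsb, mul_assoc, b2, mul_one]
      exact Subgroup.mem_zpowers a
  -- homocyclic
  exfalso
  push Not at hexp
  obtain ⟨v₀, hv₀, hv₀2⟩ := hexp
  classical
  haveI := Fintype.ofFinite M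
  obtain ⟨v, hv, hmax⟩ := Finset.exists_max_image (Finset.univ.filter fun x => x ∈ (S : Subgroup M))
    orderOf ⟨1, by simp⟩
  rw [Finset.mem_filter] at hv
  have hvS := hv.2
  have hmax' : ∀ x ∈ (S : Subgroup M), orderOf x ≤ orderOf v := fun x hx => hmax x (by simp [hx])
  have hv2 : v * v ≠ 1 := by
    intro e
    obtain ⟨m, hm⟩ := exists_two_pow_four S hv₀ hv₀2
    have h1 := hmax' v₀ hv₀
    have h2 : orderOf v ≤ 2 := Nat.le_of_dvd (by norm_num)
      (orderOf_dvd_of_pow_eq_one (by rw [pow_two]; exact e))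
    have := Nat.one_le_two_pow (n := m)
    rw [hm, pow_add] at h1
    norm_num at h1
    omega
  obtain ⟨m, hm⟩ := exists_two_pow_four S hvS hv2
  have hvne : v ≠ 1 := fun e => hv2 (by rw [e, one_mul])
  obtain ⟨he, hev⟩ := exists_involution_pow (even_orderOf_of_ne_one S hvS hvne)
  set e := v ^ (orderOf v / 2) with hedef
  obtain ⟨k, hk, hke⟩ := hmove e he (pow_mem hvS _)
  set w := k * v * k⁻¹ with hwdef
  have hwS : w ∈ (S : Subgroup M) := (Subgroup.mem_normalizer_iff.1 hk v).1 hvS
  have hwo : orderOf w = orderOf v := by simpa [hwdef] using (MulAut.conj k).orderOf_eq v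
  set e' := k * e * k⁻¹ with he'def
  have he' : orderOf e' = 2 := by simpa [he'def] using ((MulAut.conj k).orderOf_eq e).trans he
  have he'w : e' = w ^ (orderOf w / 2) := by rw [hwo, hwdef, he'def, hedef, conj_pow]
  obtain ⟨e2, e1⟩ := orderOf_two_iff.1 he
  obtain ⟨e2', e1'⟩ := orderOf_two_iff.1 he'
  have hdis : ∀ z, z ∈ Subgroup.zpowers v → z ∈ Subgroup.zpowers w → z = 1 := by
    intro z hzv hzw
    by_contra hz1
    obtain ⟨hi, hiz⟩ := exists_involution_pow
      (even_orderOf_of_ne_one S (Subgroup.zpowers_le.2 hvS hzv) hz1)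
    have h1 := eq_half_pow hi (Subgroup.zpowers_le.2 hzv hiz)
    have h2 := eq_half_pow hi (Subgroup.zpowers_le.2 hzw hiz)
    rw [h1, ← hedef, ← he'w] at h2
    exact hke h2.symm
  have hthree : ∀ z ∈ (S : Subgroup M), z * z = 1 → z = 1 ∨ z = e ∨ z = e' ∨ z = e * e' := by
    intro z hz hz2
    have h4 : ∀ f ∈ (S : Subgroup M), f * f = 1 → f ≠ 1 → f = a ∨ f = b ∨ f = a * b := fun f hf f2 f1 => by
      by_contra hcon
      push Not at hcon
      exact hcon.2.2 (hrank f hf (orderOf_two_iff.2 ⟨f2, f1⟩) hcon.1 hcon.2.1)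
    have heS : e ∈ (S : Subgroup M) := pow_mem hvS _
    have he'S : e' ∈ (S : Subgroup M) := he'w ▸ pow_mem hwS _
    have hp : e * e' ≠ 1 := fun h1 => hke (by
      rw [eq_inv_of_mul_eq_one_right h1, inv_eq_of_mul_eq_one_right e2])
    have hp2 : e * e' * (e * e') = 1 := by
      rw [show e * e' * (e * e') = e * (e' * e) * e' by group, (hab e' he'S e heS).eq,
        show e * (e * e') * e' = (e * e) * (e' * e') by group, e2, e2', one_mul]
    have d1 : e * e' ≠ e := fun h1 => e1' (mul_eq_left.1 h1)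
    have d2 : e * e' ≠ e' := fun h1 => e1 (mul_eq_right.1 h1)
    by_cases hz1 : z = 1
    · exact Or.inl hz1
    rcases h4 z hz hz2 hz1 with r | r | r <;> rcases h4 e heS e2 e1 with r1 | r1 | r1 <;>
      rcases h4 e' he'S e2' e1' with r2 | r2 | r2 <;>
      rcases h4 _ (mul_mem heS he'S) hp2 hp with r3 | r3 | r3 <;>
      first
        | exact Or.inr (Or.inl (r.trans r1.symm))
        | exact Or.inr (Or.inr (Or.inl (r.trans r2.symm)))
        | exact Or.inr (Or.inr (Or.inr (r.trans r3.symm)))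
        | exact absurd (r1.trans r2.symm) (Ne.symm hke)
        | exact absurd (r3.trans r1.symm) d1
        | exact absurd (r3.trans r2.symm) d2
  have hvw : Commute v w := hab v hvS w hwS
  have hgen : ∀ j : ℕ, ∀ x ∈ (S : Subgroup M), orderOf x ≤ j → ∃ i l : ℤ, x = v ^ i * w ^ l := by
    intro j
    induction j with
    | zero => intro x _ hx; exact absurd hx (by have := orderOf_pos x; omega)
    | succ j ih =>
      intro x hx hle
      by_cases hx1 : x = 1
      · exact ⟨0, 0, by simp [hx1]⟩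
      obtain ⟨c, hc⟩ := exists_two_pow S hx
      have hev2 : 2 ∣ orderOf x := (even_orderOf_of_ne_one S hx hx1).two_dvd
      have hlt : orderOf (x * x) < orderOf x := by
        rw [← pow_two, orderOf_pow_of_dvd (by norm_num) hev2]
        exact Nat.div_lt_self (orderOf_pos x) (by norm_num)
      obtain ⟨i, l, hil⟩ := ih (x * x) (mul_mem hx hx) (by omega)
      have hkill : (v ^ i * w ^ l) ^ (2 ^ (m + 1)) = 1 := by
        rw [← hil, ← pow_two, ← pow_mul, ← pow_succ']
        refine orderOf_dvd_iff_pow_eq_one.1 ?_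
        have := hmax' x hx
        rw [hc, hm] at this
        rw [hc]
        exact pow_dvd_pow 2 ((Nat.pow_le_pow_iff_right (by norm_num)).1 this)
      have hve : v ^ (2 ^ (m + 1)) = e := by
        rw [hedef, hm, pow_succ 2 (m + 1), Nat.mul_div_cancel _ (by norm_num)]
      have hwe : w ^ (2 ^ (m + 1)) = e' := by
        rw [he'w, hwo, hm, pow_succ 2 (m + 1), Nat.mul_div_cancel _ (by norm_num)]
      rw [(hvw.zpow_zpow i l).mul_pow, ← zpow_natCast, ← zpow_natCast, ← zpow_mul, ← zpow_mul,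
        mul_comm i, mul_comm l, zpow_mul, zpow_mul, zpow_natCast, zpow_natCast, hve, hwe] at hkill
      have e22 : e ^ (2 : ℤ) = 1 := by rw [zpow_two]; exact e2
      have e22' : e' ^ (2 : ℤ) = 1 := by rw [zpow_two]; exact e2'
      rcases Int.even_or_odd' i with ⟨i', rfl | rfl⟩ <;> rcases Int.even_or_odd' l with ⟨l', rfl | rfl⟩ <;>
        simp only [zpow_add, zpow_mul, e22, e22', one_zpow, one_mul, mul_one, zpow_one] at hkill
      · set y := x * (v ^ i' * w ^ l')⁻¹ with hy
        have hyS : y ∈ (S : Subgroup M) := mul_mem hx (inv_mem (mul_mem (zpow_mem hvS _) (zpow_mem hwS _)))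
        have hc' : Commute x (v ^ i' * w ^ l')⁻¹ :=
          hab x hx _ (inv_mem (mul_mem (zpow_mem hvS _) (zpow_mem hwS _)))
        have hy2 : y * y = 1 := by
          rw [hy, show x * (v ^ i' * w ^ l')⁻¹ * (x * (v ^ i' * w ^ l')⁻¹) =
            x * ((v ^ i' * w ^ l')⁻¹ * x) * (v ^ i' * w ^ l')⁻¹ by group, ← hc'.eq,
            show x * (x * (v ^ i' * w ^ l')⁻¹) * (v ^ i' * w ^ l')⁻¹ =
              (x * x) * ((v ^ i' * w ^ l') * (v ^ i' * w ^ l'))⁻¹ by group,
            hil, (hvw.zpow_zpow i' l').symm.mul_mul_mul_comm, ← zpow_add, ← zpow_add, ← two_mul,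
            ← two_mul, mul_inv_cancel]
        have hx' : x = y * (v ^ i' * w ^ l') := by rw [hy, inv_mul_cancel_right]
        obtain ⟨p, q, hpq⟩ : ∃ p q : ℤ, y = v ^ p * w ^ q := by
          have he0 : e = v ^ ((orderOf v / 2 : ℕ) : ℤ) := by rw [zpow_natCast]
          have he0' : e' = w ^ ((orderOf w / 2 : ℕ) : ℤ) := by rw [zpow_natCast]; exact he'w
          rcases hthree y hyS hy2 with r | r | r | r
          · exact ⟨0, 0, by simp [r]⟩
          · exact ⟨((orderOf v / 2 : ℕ) : ℤ), 0, by rw [r, zpow_zero, mul_one]; exact he0⟩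
          · exact ⟨0, ((orderOf w / 2 : ℕ) : ℤ), by rw [r, zpow_zero, one_mul]; exact he0'⟩
          · exact ⟨((orderOf v / 2 : ℕ) : ℤ), ((orderOf w / 2 : ℕ) : ℤ), by rw [r, ← he0, ← he0']⟩
        refine ⟨p + i', q + l', ?_⟩
        rw [hx', hpq, (hvw.zpow_zpow i' q).symm.mul_mul_mul_comm, ← zpow_add, ← zpow_add]
      · exact absurd hkill e1'
      · exact absurd hkill e1
      · exact absurd (eq_inv_of_mul_eq_one_right hkill) (by rw [inv_eq_of_mul_eq_one_right e2]; exact hke)
  haveI : NeZero (2 ^ (m + 2)) := ⟨by positivity⟩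
  obtain ⟨iso⟩ := equiv_homocyclic (S : Subgroup M) hvS hwS hm (hwo.trans hm) hvw hdis
    fun x hx => hgen (orderOf x) x hx le_rfl
  refine h.not_normal S hS (S0949.result S (m + 2) (by omega) iso fun N hN hodd => ?_).1
  refine hN.eq_bot_or_eq_top.resolve_right fun e => hnab ?_
  rw [e, Subgroup.card_top] at hodd
  exact fun a b => IsSimpleGroup.comm_iff_isSolvable.2 (H25.PF14.odd_solvable M hodd) a b

end Cfsg.Agent.H33.EC
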