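import Mathlib
import Cfsg.Agent.H33.EC.Simple
import Cfsg.Agent.H33.EC.Normal
import Cfsg.Agent.H33.EC.FieldTwo
import Cfsg.Agent.S0307

/-!
Groups without solvable normal subgroups with the normalizer condition on even cyclic subgroups are
`PSL₂` or `PGL₂`.
-/

set_option autoImplicit false

namespace Cfsg.Agent.H33.EC

open Matrix Cfsg.Agent.H70.AutPSL

/-- A group over `PSL₂` inside the inner-diagonal automorphisms is `PSL₂` or `PGL₂`. -/
theorem Over.classify {F : Type*} [Field F] [Fintype F] {G : Type*} [Group G] [Finite G]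
    {ρ : G →* MulAut (Matrix.ProjectiveSpecialLinearGroup (Fin 2) F)} (h : Over ρ)
    (hF : Odd (Fintype.card F) ∨ 4 < Fintype.card F) :
    Nonempty (G ≃* Matrix.ProjectiveSpecialLinearGroup (Fin 2) F) ∨
      Nonempty (G ≃* Matrix.ProjGenLinGroup (Fin 2) F) := by
  let Φ : Matrix.ProjGenLinGroup (Fin 2) F →* MulAut (Matrix.ProjectiveSpecialLinearGroup (Fin 2) F) :=
    Matrix.ProjGenLinGroup.lift (innDiag 2 F) (MonoidHom.ext fun a => (innDiag_eq_one_iff le_rfl _).2 ⟨a, rfl⟩)
  have hΦ : ∀ A, Φ (Matrix.ProjGenLinGroup.mk A) = innDiag 2 F A := fun A => rfl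
  have hΦinj : Function.Injective Φ := by
    rw [injective_iff_map_eq_one]
    intro x hx
    induction x using Matrix.ProjGenLinGroup.induction_on with | mk A =>
    rw [hΦ] at hx
    obtain ⟨a, ha⟩ := (innDiag_eq_one_iff le_rfl A).1 hx
    rw [← map_one (Matrix.ProjGenLinGroup.mk (n := Fin 2) (R := F)), Matrix.ProjGenLinGroup.mk_eq_mk_iff]
    refine ⟨a⁻¹, ?_⟩
    show A * scal 2 a⁻¹ = 1
    rw [ha, show scal 2 a * scal 2 a⁻¹ = scal 2 (a * a⁻¹) from (map_mul _ _ _).symm, mul_inv_cancel]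
    exact map_one _
  have hle : ρ.range ≤ Φ.range := by
    rintro _ ⟨g, rfl⟩
    obtain ⟨B, σ, hσ⟩ := exists_semiAut le_rfl (ρ g)
    rcases hσ with hσ | ⟨h3, -⟩
    · have h1 := h.sigma_one hF hσ
      subst h1
      exact ⟨Matrix.ProjGenLinGroup.mk B, by rw [hΦ, hσ]; rfl⟩
    · omega
  let R : Subgroup (Matrix.ProjGenLinGroup (Fin 2) F) := ρ.range.comap Φ
  let e : G ≃* R := (MonoidHom.ofInjective h.inj).trans
    ((R.equivMapOfInjective Φ hΦinj).trans (MulEquiv.subgroupCongr (Subgroup.map_comap_eq_self hle))).symm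
  set K := (Matrix.ProjectiveSpecialLinearGroup.toPGL :
    Matrix.ProjectiveSpecialLinearGroup (Fin 2) F →* Matrix.ProjGenLinGroup (Fin 2) F).range with hK
  have hKR : K ≤ R := by
    rintro _ ⟨x, rfl⟩
    induction x using QuotientGroup.induction_on with | H s =>
    show Φ (Matrix.ProjectiveSpecialLinearGroup.toPGL (s : Matrix.ProjectiveSpecialLinearGroup (Fin 2) F)) ∈ ρ.range
    rw [Matrix.ProjectiveSpecialLinearGroup.toPGL_mk, hΦ]
    exact h.exists_of_det (by simp)
  obtain ⟨f, hf, hfK⟩ := S0307.result (F := F) rfl 2 (by norm_num)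
  have hKi : K.index ∣ 2 := by
    rw [hK, ← hfK, Subgroup.index_ker, MonoidHom.range_eq_top.2 hf, Subgroup.card_top,
      Nat.card_congr Multiplicative.toAdd, Nat.card_zmod]
    exact Nat.gcd_dvd_left _ _
  have hRi := (Subgroup.index_dvd_of_le hKR).trans hKi
  rcases (Nat.dvd_prime Nat.prime_two).1 hRi with h1 | h1
  · right
    exact ⟨e.trans ((MulEquiv.subgroupCongr (Subgroup.index_eq_one.1 h1)).trans Subgroup.topEquiv)⟩
  · left
    have hd := Subgroup.index_dvd_of_le hKR
    rw [h1] at hd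
    have hK2 : K.index = 2 := Nat.dvd_antisymm hKi hd
    have h3 := Subgroup.relIndex_mul_index hKR
    rw [h1, hK2] at h3
    have hRK : R ≤ K := Subgroup.relIndex_eq_one.1 (by omega)
    exact ⟨e.trans ((MulEquiv.subgroupCongr (le_antisymm hRK hKR)).trans
      (MonoidHom.ofInjective Matrix.ProjectiveSpecialLinearGroup.toPGL_injective).symm)⟩

/-- The classification. -/
theorem main {G : Type*} [Group G] [Finite G] [Nontrivial G]
    (hss : ∀ N : Subgroup G, N.Normal → Group.IsSolvable ↥N → N = ⊥) (h : NC G) :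
    ∃ (F : Type) (_ : Field F) (_ : Fintype F), 3 < Fintype.card F ∧
      (Nonempty (G ≃* Matrix.ProjectiveSpecialLinearGroup (Fin 2) F) ∨
        Nonempty (G ≃* Matrix.ProjGenLinGroup (Fin 2) F)) := by
  obtain ⟨M, hMn, hMs, hMnab, hC⟩ := exists_simple_normal hss h
  obtain ⟨F, iF, iFt, h3, hor, ⟨e⟩⟩ := simple_psl hMnab (h.subgroup M)
  refine ⟨F, iF, iFt, h3, ?_⟩
  let ρ : G →* MulAut (Matrix.ProjectiveSpecialLinearGroup (Fin 2) F) :=
    (MulAut.congr e).toMonoidHom.comp (MulAut.conjNormal : G →* MulAut M)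
  have hover : Over ρ := by
    refine ⟨h, ?_, fun x => ⟨((e.symm x : M) : G), ?_⟩⟩
    · rw [injective_iff_map_eq_one]
      intro g hg
      have h1 : (MulAut.conjNormal g : MulAut M) = 1 := (MulAut.congr e).injective (by rw [map_one]; exact hg)
      have h2 : g ∈ Subgroup.centralizer (M : Set G) := Subgroup.mem_centralizer_iff.2 fun m hm => by
        have h4 := congrArg (fun f : MulAut M => ((f ⟨m, hm⟩ : M) : G)) h1
        simp only [MulAut.conjNormal_apply, MulAut.one_apply] at h4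
        exact (mul_inv_eq_iff_eq_mul.1 h4).symm
      rwa [hC, Subgroup.mem_bot] at h2
    · refine MulEquiv.ext fun y => ?_
      show e (MulAut.conjNormal ((e.symm x : M) : G) (e.symm y)) = x * y * x⁻¹
      have h1 : MulAut.conjNormal ((e.symm x : M) : G) (e.symm y) = e.symm (x * y * x⁻¹) := by
        rw [map_mul, map_mul, map_inv]
        exact Subtype.ext (by rw [MulAut.conjNormal_apply]; rfl)
      rw [h1, MulEquiv.apply_symm_apply]
  refine hover.classify (hor.imp id fun h8 => ?_)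
  omega

end Cfsg.Agent.H33.EC
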